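import Mathlib

/-! Tuples killed by the Euler relation are spanned by weighted Gaussian brackets. -/

set_option autoImplicit false
noncomputable section

namespace Groth.Agent.MiscLead

open MvPolynomial

universe u

variable {k : Type u} [Field k] {σ : Type} [Fintype σ] [DecidableEq σ]

theorem exists_le_degree (γ : σ →₀ ℕ) : ∀ m : ℕ, m ≤ γ.degree → ∃ β : σ →₀ ℕ, β ≤ γ ∧ β.degree = m := by
  intro m
  induction m with
  | zero => exact fun _ => ⟨0, zero_le, map_zero _⟩
  | succ m ih =>
    intro hm
    obtain ⟨β, hβ, hd⟩ := ih (by omega)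
    obtain ⟨l, hl⟩ : ∃ l, β l < γ l := by
      by_contra hne
      push Not at hne
      have : β = γ := le_antisymm hβ hne
      subst this
      omega
    refine ⟨β + Finsupp.single l 1, fun x => ?_, by rw [map_add, hd, Finsupp.degree_single]⟩
    by_cases hx : x = l
    · subst hx; simp; omega
    · simp [Finsupp.single_eq_of_ne hx, hβ x]

/-- The tuple with `l`-th entry `c_l x^{γ - e_l}`. -/
def tup (γ : σ →₀ ℕ) : (σ → k) →ₗ[k] (σ → MvPolynomial σ k) :=
  LinearMap.pi fun l => (monomial (γ - Finsupp.single l 1)).comp (LinearMap.proj l)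

theorem tup_apply (γ : σ →₀ ℕ) (c : σ → k) (l : σ) :
    tup γ c l = monomial (γ - Finsupp.single l 1) (c l) := rfl

/-- The brackets. -/
def brackets (k : Type u) [Field k] (σ : Type) (a b p q : ℕ) : Set (σ → MvPolynomial σ k) :=
  {g | ∃ s t : MvPolynomial σ k, s.IsHomogeneous p ∧ t.IsHomogeneous q ∧
    g = fun i => (b : k) • (t * pderiv i s) - (a : k) • (s * pderiv i t)}

theorem monomial_mul_pderiv (α β γ : σ →₀ ℕ) (h : α + β = γ) (l : σ) :
    (monomial β (1 : k)) * pderiv l (monomial α 1) = monomial (γ - Finsupp.single l 1) (α l : k) := by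
  rw [pderiv_monomial, monomial_mul, one_mul, one_mul]
  by_cases hl : α l = 0
  · simp [hl]
  · congr 1
    subst h
    rw [add_comm α β]
    exact congrArg _ (add_tsub_assoc_of_le (Finsupp.single_le_iff.mpr (Nat.pos_of_ne_zero hl)) β).symm

theorem tup_bracket_mem (a b p q : ℕ) (α β γ : σ →₀ ℕ) (h : α + β = γ) (hp : α.degree = p) (hq : β.degree = q) :
    tup γ (fun l => (b : k) * α l - (a : k) * β l) ∈ brackets k σ a b p q := by
  refine ⟨monomial α 1, monomial β 1, isHomogeneous_monomial _ hp, isHomogeneous_monomial _ hq, funext fun l => ?_⟩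
  rw [tup_apply, monomial_mul_pderiv α β γ h l, monomial_mul_pderiv β α γ (by rw [add_comm, h]) l,
    smul_monomial, smul_monomial, smul_eq_mul, smul_eq_mul, map_sub]

theorem tup_diff_mem (a b p q : ℕ) (hab : ((a : k) + b) ≠ 0) (hp : 0 < p) (hq : 0 < q) (γ : σ →₀ ℕ)
    (hγ : γ.degree = p + q) (i j : σ) (hi : γ i ≠ 0) (hj : γ j ≠ 0) :
    tup γ (Pi.single i 1 - Pi.single j 1) ∈ Submodule.span k (brackets k σ a b p q) := by
  by_cases hij : i = j
  · subst hij; rw [sub_self, map_zero]; exact zero_mem _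
  have hle : Finsupp.single i 1 + Finsupp.single j 1 ≤ γ := fun x => by
    by_cases hx : x = i
    · subst hx; simp [Finsupp.single_eq_of_ne hij]; omega
    · by_cases hx' : x = j
      · subst hx'; simp [Finsupp.single_eq_of_ne hx]; omega
      · simp [Finsupp.single_eq_of_ne hx, Finsupp.single_eq_of_ne hx']
  set δ := γ - (Finsupp.single i 1 + Finsupp.single j 1) with hδ
  have hγδ : Finsupp.single i 1 + Finsupp.single j 1 + δ = γ := add_tsub_cancel_of_le hle
  have hδd : δ.degree + 2 = p + q := by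
    rw [← hγ, ← hγδ, map_add, map_add, Finsupp.degree_single, Finsupp.degree_single]; omega
  obtain ⟨ε, hε, hεd⟩ := exists_le_degree δ (p - 1) (by omega)
  obtain ⟨η, hη⟩ : ∃ η, ε + η = δ := ⟨_, add_tsub_cancel_of_le hε⟩
  have hdd : ε.degree + η.degree = δ.degree := by rw [← map_add, hη]
  have h1 := tup_bracket_mem (k := k) a b p q (Finsupp.single i 1 + ε) (Finsupp.single j 1 + η) γ
    (by rw [← hγδ, ← hη]; abel)
    (by rw [map_add, Finsupp.degree_single]; omega) (by rw [map_add, Finsupp.degree_single]; omega)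
  have h2 := tup_bracket_mem (k := k) a b p q (Finsupp.single j 1 + ε) (Finsupp.single i 1 + η) γ
    (by rw [← hγδ, ← hη]; abel)
    (by rw [map_add, Finsupp.degree_single]; omega) (by rw [map_add, Finsupp.degree_single]; omega)
  have h3 := Submodule.smul_mem _ ((a : k) + b)⁻¹
    (sub_mem (Submodule.subset_span (R := k) h1) (Submodule.subset_span (R := k) h2))
  rw [← map_sub, ← map_smul] at h3
  convert! h3 using 2
  funext l
  simp only [Finsupp.coe_add, Pi.add_apply, Pi.sub_apply, Pi.smul_apply, smul_eq_mul, Finsupp.single_apply,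
    Pi.single_apply, Nat.cast_add, Nat.cast_ite, Nat.cast_one, Nat.cast_zero, eq_comm (a := l)]
  field_simp
  ring

theorem mem_span_brackets (a b p q : ℕ) (hab : ((a : k) + b) ≠ 0) (hp : 0 < p) (hq : 0 < q)
    (f : σ → MvPolynomial σ k) (hf : ∀ i, (f i).IsHomogeneous (p + q - 1)) (hEuler : ∑ i, X i * f i = 0) :
    f ∈ Submodule.span k (brackets k σ a b p q) := by
  classical
  let c : (σ →₀ ℕ) → σ → k := fun γ l => if γ l = 0 then 0 else coeff (γ - Finsupp.single l 1) (f l)
  let T : Finset (σ →₀ ℕ) := Finset.univ.biUnion fun l => (f l).support.image (· + Finsupp.single l 1)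
  have hT : ∀ γ ∈ T, γ.degree = p + q := by
    intro γ hγ
    obtain ⟨l, -, hl⟩ := Finset.mem_biUnion.mp hγ
    obtain ⟨m, hm, rfl⟩ := Finset.mem_image.mp hl
    have := hf l (mem_support_iff.mp hm)
    rw [map_add, Finsupp.degree_single, Finsupp.degree_eq_weight_one]
    change Finsupp.weight 1 m + 1 = p + q
    omega
  have hsum : ∀ γ, ∑ l, c γ l = 0 := by
    intro γ
    have := congrArg (coeff γ) hEuler
    rw [coeff_sum, coeff_zero] at this
    rw [← this]
    refine Finset.sum_congr rfl fun l _ => ?_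
    rw [coeff_X_mul']
    by_cases hl : γ l = 0 <;> simp [c, hl, Finsupp.mem_support_iff]
  have hfeq : f = ∑ γ ∈ T, tup γ (c γ) := by
    funext l
    rw [Finset.sum_apply]
    ext m
    rw [coeff_sum, Finset.sum_eq_single (m + Finsupp.single l 1)]
    · simp [tup_apply, c, coeff_monomial]
    · intro γ _ hne
      rw [tup_apply, coeff_monomial, ite_eq_right_iff]
      intro h
      by_cases hl : γ l = 0
      · simp [c, hl]
      · exact absurd (by rw [← h, tsub_add_cancel_of_le (Finsupp.single_le_iff.mpr (Nat.pos_of_ne_zero hl))]) hne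
    · intro hnot
      have : coeff m (f l) = 0 := by
        by_contra h
        exact hnot (Finset.mem_biUnion.mpr ⟨l, Finset.mem_univ _, Finset.mem_image.mpr ⟨m, mem_support_iff.mpr h, rfl⟩⟩)
      simp [tup_apply, c, coeff_monomial, this]
  rw [hfeq]
  refine Submodule.sum_mem _ fun γ hγ => ?_
  obtain ⟨i₀, hi₀⟩ : ∃ i, γ i ≠ 0 := by
    by_contra hne
    push Not at hne
    have : γ = 0 := Finsupp.ext hne
    have := hT γ hγ
    subst γ
    rw [map_zero] at this
    omega
  have hc : c γ = ∑ l, c γ l • (Pi.single l (1 : k) - Pi.single i₀ 1) := by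
    funext x
    simp [Finset.sum_apply, Pi.single_apply, mul_sub, Finset.sum_sub_distrib, hsum γ]
  rw [hc, map_sum]
  refine Submodule.sum_mem _ fun l _ => ?_
  rw [map_smul]
  by_cases hl : γ l = 0
  · simp [c, hl]
  · exact Submodule.smul_mem _ _ (tup_diff_mem a b p q hab hp hq γ (hT γ hγ) l i₀ hl hi₀)

end Groth.Agent.MiscLead
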