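import Mathlib

/-! An ideal sheaf with stationary powers has clopen support. -/

set_option autoImplicit false

namespace Groth.Agent.MiscLead

open CategoryTheory AlgebraicGeometry

universe u

theorem isClopen_support_of_pow_le {X : Scheme.{u}} [IsLocallyNoetherian X] (J : X.IdealSheafData)
    (k : ℕ) (h : J ^ k ≤ J ^ (k + 1)) : IsClopen (J.support : Set X) := by
  refine ⟨J.support.isClosed, ?_⟩
  rw [isOpen_iff_forall_mem_open]
  intro x hx
  obtain ⟨_, ⟨U, hU, rfl⟩, hxU, -⟩ :=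
    X.isBasis_affineOpens.exists_subset_of_mem_open (Set.mem_univ x) isOpen_univ
  haveI : IsNoetherianRing Γ(X, U) := IsLocallyNoetherian.component_noetherian ⟨U, hU⟩
  set K := J.ideal ⟨U, hU⟩ with hK
  have hle : K ^ k ≤ K • (K ^ k) := by
    have h1 := h ⟨U, hU⟩
    rw [Scheme.IdealSheafData.ideal_pow, Scheme.IdealSheafData.ideal_pow, Pi.pow_apply, Pi.pow_apply] at h1
    rwa [smul_eq_mul, ← pow_succ']
  obtain ⟨r, hr1, hr⟩ := Submodule.exists_sub_one_mem_and_smul_eq_zero_of_fg_of_le_smul K (K ^ k)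
    (IsNoetherian.noetherian _) hle
  have hxz : x ∈ X.zeroLocus (U := U) (K : Set Γ(X, U)) :=
    ((Set.ext_iff.mp (J.coe_support_inter ⟨U, hU⟩) x).mp ⟨hx, hxU⟩).1
  refine ⟨X.basicOpen r, fun y hy => ?_, (X.basicOpen r).isOpen, ?_⟩
  · have hyU : y ∈ U := X.basicOpen_le r hy
    refine ((Set.ext_iff.mp (J.coe_support_inter ⟨U, hU⟩) y).mpr ⟨?_, hyU⟩).1
    rw [Scheme.mem_zeroLocus_iff]
    intro f hf hyf
    have h0 : r * f ^ (k + 1) = 0 := hr _ (Ideal.pow_le_pow_right (Nat.le_succ k) (Ideal.pow_mem_pow hf _))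
    have hy2 : y ∈ X.basicOpen (r * f ^ (k + 1)) := by
      rw [Scheme.basicOpen_mul, Scheme.basicOpen_pow _ _ (Nat.succ_pos k)]
      exact ⟨hy, hyf⟩
    rw [h0, Scheme.basicOpen_zero] at hy2
    exact hy2
  · rw [SetLike.mem_coe, Scheme.mem_basicOpen _ _ x hxU]
    have hnu : ¬ IsUnit (X.presheaf.germ U x hxU (r - 1)) := by
      rw [← Scheme.mem_basicOpen]
      exact (Scheme.mem_zeroLocus_iff _ _ _).mp hxz _ hr1
    by_contra hru
    refine (IsLocalRing.isUnit_or_isUnit_of_add_one (R := X.presheaf.stalk x)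
      (a := X.presheaf.germ U x hxU r) (b := - X.presheaf.germ U x hxU (r - 1)) ?_).elim hru fun hu => hnu (by simpa using hu.neg)
    rw [map_sub, map_one]; ring

end Groth.Agent.MiscLead
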