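import Mathlib

/-! Residue degrees of a finite morphism are bounded on a quasi-compact base. -/

set_option autoImplicit false
noncomputable section

namespace Groth.Agent.MiscLead

open CategoryTheory AlgebraicGeometry

universe u

theorem exists_bound_affine {X Y : Scheme.{u}} (f : X ⟶ Y) [IsFinite f] (U : Y.affineOpens) :
    ∃ N : ℕ, ∀ x : X, f x ∈ U.1 →
      letI := (f.residueFieldMap x).hom.toAlgebra
      FiniteDimensional (Y.residueField (f x)) (X.residueField x) ∧
        Module.finrank (Y.residueField (f x)) (X.residueField x) ≤ N := by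
  classical
  have hfin : (f.app U.1).hom.Finite := IsFinite.finite_app f U.1 U.2
  algebraize [(f.app U.1).hom]
  obtain ⟨s, hs⟩ := (Module.Finite.fg_top : (⊤ : Submodule Γ(Y, U.1) Γ(X, f ⁻¹ᵁ U.1)).FG)
  refine ⟨s.card, fun x hx => ?_⟩
  letI := (f.residueFieldMap x).hom.toAlgebra
  let ψ := (X.evaluation (f ⁻¹ᵁ U.1) x hx).hom
  let φ := (Y.evaluation U.1 (f x) hx).hom
  have hcomm : ∀ a, ψ ((f.app U.1).hom a) = (f.residueFieldMap x).hom (φ a) := fun a =>
    (Scheme.evaluation_naturality_apply f x hx a).symm
  let t : Finset (X.residueField x) := s.image ψ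
  let M : Submodule (Y.residueField (f x)) (X.residueField x) := Submodule.span _ (t : Set (X.residueField x))
  have hψ : ∀ b, ψ b ∈ M := by
    intro b
    have hb : b ∈ Submodule.span Γ(Y, U.1) (s : Set Γ(X, f ⁻¹ᵁ U.1)) := hs ▸ Submodule.mem_top
    induction hb using Submodule.span_induction with
    | mem y hy => exact Submodule.subset_span (Finset.mem_image_of_mem _ hy)
    | zero => rw [map_zero]; exact zero_mem _
    | add y z _ _ hy hz => rw [map_add]; exact add_mem hy hz
    | smul a y _ hy =>
      rw [show a • y = (f.app U.1).hom a * y from rfl, map_mul, hcomm]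
      exact M.smul_mem (φ a) hy
  let A : Subalgebra (Y.residueField (f x)) (X.residueField x) :=
    { carrier := M
      mul_mem' := fun {a b} ha hb => by
        simp only [SetLike.mem_coe] at ha hb ⊢
        induction ha using Submodule.span_induction with
        | mem y hy =>
          induction hb using Submodule.span_induction with
          | mem z hz =>
            obtain ⟨y, -, rfl⟩ := Finset.mem_image.mp hy
            obtain ⟨z, -, rfl⟩ := Finset.mem_image.mp hz
            rw [← map_mul]; exact hψ _
          | zero => rw [mul_zero]; exact zero_mem _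
          | add u v _ _ hu hv => rw [mul_add]; exact add_mem hu hv
          | smul c u _ hu => rw [mul_smul_comm]; exact M.smul_mem c hu
        | zero => rw [zero_mul]; exact zero_mem _
        | add u v _ _ hu hv => rw [add_mul]; exact add_mem hu hv
        | smul c u _ hu => rw [smul_mul_assoc]; exact M.smul_mem c hu
      one_mem' := by simpa only [SetLike.mem_coe, map_one] using hψ 1
      add_mem' := M.add_mem
      zero_mem' := M.zero_mem
      algebraMap_mem' := fun r => by
        rw [Algebra.algebraMap_eq_smul_one]
        exact M.smul_mem r (by simpa only [map_one] using hψ 1) }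
  haveI : FiniteDimensional (Y.residueField (f x)) A :=
    inferInstanceAs (FiniteDimensional (Y.residueField (f x)) (Submodule.span (Y.residueField (f x)) (t : Set (X.residueField x))))
  have hA : IsField A := isField_of_isIntegral_of_isField' (Field.toIsField (Y.residueField (f x)))
  have htop : M = ⊤ := by
    rw [eq_top_iff]
    intro z _
    obtain ⟨y, rfl⟩ := X.residue_surjective x z
    letI := (X.presheaf.germ (f ⁻¹ᵁ U.1) x hx).hom.toAlgebra
    haveI := (U.2.preimage f).isLocalization_stalk ⟨x, hx⟩
    obtain ⟨b, c, rfl⟩ := IsLocalization.exists_mk'_eq ((U.2.preimage f).primeIdealOf ⟨x, hx⟩).asIdeal.primeCompl y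
    have hu : IsUnit (ψ c) := by
      exact (IsLocalization.map_units (X.presheaf.stalk x) c).map (X.residue x).hom
    obtain ⟨⟨w, hw⟩, hw1⟩ := hA.mul_inv_cancel (a := (⟨ψ c, hψ c⟩ : A))
      (fun h => hu.ne_zero (congrArg Subtype.val h))
    have hw1' : ψ c * w = 1 := congrArg Subtype.val hw1
    have hz : ψ c * (X.residue x).hom (IsLocalization.mk' _ b c) = ψ b := by
      show (X.residue x).hom (algebraMap _ _ c.1) * _ = (X.residue x).hom (algebraMap _ _ b)
      rw [← map_mul, IsLocalization.mk'_spec']
    have : (X.residue x).hom (IsLocalization.mk' _ b c) = ψ b * w := by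
      rw [← hz, mul_comm (ψ c), mul_assoc, hw1', mul_one]
    show (X.residue x).hom _ ∈ M
    rw [this]
    exact A.mul_mem (hψ b) hw
  haveI hfd : FiniteDimensional (Y.residueField (f x)) (X.residueField x) :=
    Module.finite_def.mpr ⟨t, htop⟩
  refine ⟨hfd, ?_⟩
  rw [← finrank_top, ← htop]
  exact (finrank_span_finset_le_card t).trans Finset.card_image_le

theorem exists_bound {X Y : Scheme.{u}} (f : X ⟶ Y) [IsFinite f] [CompactSpace Y] :
    ∃ N : ℕ, ∀ x : X,
      letI := (f.residueFieldMap x).hom.toAlgebra
      FiniteDimensional (Y.residueField (f x)) (X.residueField x) ∧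
        Module.finrank (Y.residueField (f x)) (X.residueField x) ≤ N := by
  classical
  choose N hN using fun U : Y.affineOpens => exists_bound_affine f U
  obtain ⟨s, hs⟩ := isCompact_univ.elim_finite_subcover (fun U : Y.affineOpens => (U.1 : Set Y))
    (fun U => U.1.2) (fun y _ => by
      obtain ⟨_, ⟨U, hU, rfl⟩, hyU, -⟩ := Y.isBasis_affineOpens.exists_subset_of_mem_open (Set.mem_univ y) isOpen_univ
      exact Set.mem_iUnion.mpr ⟨⟨U, hU⟩, hyU⟩)
  refine ⟨s.sup N, fun x => ?_⟩
  obtain ⟨U, hUs, hxU⟩ := Set.mem_iUnion₂.mp (hs (Set.mem_univ (f x)))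
  exact ⟨(hN U x hxU).1, (hN U x hxU).2.trans (Finset.le_sup hUs)⟩

end Groth.Agent.MiscLead
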